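import Cfsg.Agent.H521.SN.SpFour

/-!
# S3831, the base `PSp₄(3) ≅ U₄(2)`: orders six and nine (helper521, task 4462)

* `r69_psp_four`, `r69_psu_four_two`
-/


set_option autoImplicit false
set_option linter.unusedSectionVars false

namespace Cfsg.Agent.H521.SN.SpFour

open Subgroup Cfsg Matrix Cfsg.Agent.H459.Rad
  Cfsg.Agent.H459.Iface Cfsg.Agent.H839.Rad Cfsg.Agent.H21.SN
open Cfsg.Agent.H959.Rad3 (Inv inv_of_ps)
open Cfsg.Agent.H855.Rad3.SpFour

theorem scal : ∀ d : ZMod 3, d * d = 1 → m4 d 0 0 0 0 d 0 0 0 0 d 0 0 0 0 d = 1 ∨ m4 d 0 0 0 0 d 0 0 0 0 d 0 0 0 0 d = -1 := by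
  decide +kernel

open Sum in
/-- the involutions commuting with `T` -/
theorem form {M : M4} (hM : M * J (Fin 2) (ZMod 3) * Mᵀ = J (Fin 2) (ZMod 3)) (h : M * TM = TM * M)
    (h2 : M * M = 1 ∨ M * M = -1) (h1 : ¬ (M = 1 ∨ M = -1)) : ∃ e x y : ZMod 3, e * e = 1 ∧ M = sM e x y := by
  have c1 := congrFun (congrFun h (inl 0)) (inr 0)
  have c2 := congrFun (congrFun h (inl 0)) (inl 0)
  have c3 := congrFun (congrFun h (inl 0)) (inl 1)
  have c4 := congrFun (congrFun h (inl 0)) (inr 1)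
  have c5 := congrFun (congrFun h (inl 1)) (inr 0)
  have c6 := congrFun (congrFun h (inr 1)) (inr 0)
  have s1 := congrFun (congrFun hM (inl 0)) (inr 0)
  have s2 := congrFun (congrFun hM (inl 0)) (inl 1)
  have s3 := congrFun (congrFun hM (inl 0)) (inr 1)
  have s4 := congrFun (congrFun hM (inl 1)) (inr 1)
  simp [TM, uM, m4, Matrix.mul_apply, Fintype.sum_sum_type, Fin.sum_univ_two, J] at c1 c2 c3 c4 c5 c6 s1 s2 s3 s4
  have c1' : M (inr 0) (inr 0) = M (inl 0) (inl 0) := by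
    rw [add_comm] at c1
    exact (add_left_cancel c1).symm
  have hm : M = m4 (M (inl 0) (inl 0)) (M (inl 0) (inl 1)) (M (inl 0) (inr 0)) (M (inl 0) (inr 1))
      0 (M (inl 1) (inl 1)) (M (inl 1) (inr 0)) (M (inl 1) (inr 1))
      0 0 (M (inl 0) (inl 0)) 0
      0 (M (inr 1) (inl 1)) (M (inr 1) (inr 0)) (M (inr 1) (inr 1)) := by
    ext i j
    rcases i with i | i <;> rcases j with j | j <;> fin_cases i <;> fin_cases j <;>
      first | rfl | exact c2 | exact c3 | exact c4 | exact c5 | exact c6 | exact c1'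
  rw [c1', c2, c3, c4] at s1
  rw [c5] at s2 s4
  rw [c6] at s3 s4
  obtain ⟨e, he⟩ : ∃ e, M (inl 0) (inl 0) = e := ⟨_, rfl⟩
  obtain ⟨x, hx⟩ : ∃ e, M (inl 0) (inl 1) = e := ⟨_, rfl⟩
  obtain ⟨z, hz⟩ : ∃ e, M (inl 0) (inr 0) = e := ⟨_, rfl⟩
  obtain ⟨y, hy⟩ : ∃ e, M (inl 0) (inr 1) = e := ⟨_, rfl⟩
  obtain ⟨a, ha⟩ : ∃ e, M (inl 1) (inl 1) = e := ⟨_, rfl⟩
  obtain ⟨k, hk⟩ : ∃ e, M (inl 1) (inr 0) = e := ⟨_, rfl⟩
  obtain ⟨b, hb⟩ : ∃ e, M (inl 1) (inr 1) = e := ⟨_, rfl⟩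
  obtain ⟨c, hc⟩ : ∃ e, M (inr 1) (inl 1) = e := ⟨_, rfl⟩
  obtain ⟨l, hl⟩ : ∃ e, M (inr 1) (inr 0) = e := ⟨_, rfl⟩
  obtain ⟨d, hd⟩ : ∃ e, M (inr 1) (inr 1) = e := ⟨_, rfl⟩
  rw [he, hx, hz, hy, ha, hk, hb, hc, hl, hd] at hm
  rw [he, hx, hz, hy] at s1
  rw [he, hx, hz, hy, ha, hk, hb] at s2
  rw [he, hx, hz, hy, hc, hl, hd] at s3
  rw [ha, hk, hb, hc, hl, hd] at s4
  clear c1 c2 c3 c4 c5 c6 he hx hz hy ha hk hb hc hl hd c1' h hM
  have hee : e * e = 1 := by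
    have : -(e * e) = (-1 : ZMod 3) := by simpa using s1
    simpa using congrArg Neg.neg this
  have hsq : M * M = 1 := by
    rcases h2 with h2 | h2
    · exact h2
    · exfalso
      have q := congrFun (congrFun h2 (inl 0)) (inl 0)
      rw [hm] at q
      simp [m4, Matrix.mul_apply, Fintype.sum_sum_type, Fin.sum_univ_two] at q
      rw [hee] at q
      revert q
      decide
  clear h2
  have q11 := congrFun (congrFun hsq (inl 1)) (inl 1)
  have q13 := congrFun (congrFun hsq (inl 1)) (inr 1)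
  have q31 := congrFun (congrFun hsq (inr 1)) (inl 1)
  have q33 := congrFun (congrFun hsq (inr 1)) (inr 1)
  have q01 := congrFun (congrFun hsq (inl 0)) (inl 1)
  have q03 := congrFun (congrFun hsq (inl 0)) (inr 1)
  have q02 := congrFun (congrFun hsq (inl 0)) (inr 0)
  rw [hm] at q11 q13 q31 q33 q01 q03 q02
  simp [m4, Matrix.mul_apply, Fintype.sum_sum_type, Fin.sum_univ_two] at q11 q13 q31 q33 q01 q03 q02
  obtain ⟨rfl, rfl, rfl, haa⟩ := blk a b c d q11 q13 q31 q33 (by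
    have h5 : b * c - a * d = -1 := by rw [← s4]; ring
    have h6 := congrArg Neg.neg h5
    simpa using h6)
  have r := fin6 e d x y z k l hee haa (by
      have h5 : y * d - e * k = 0 := by rw [← s2]; ring
      exact (sub_eq_zero.1 h5).symm) (by
      have h5 : -(x * d) - e * l = 0 := by rw [← s3]; ring
      exact (sub_eq_zero.1 h5).symm) (by rw [← q01]; ring) (by rw [← q03]; ring) (by rw [← q02]; ring) (by
      rintro ⟨rfl, rfl, rfl, rfl, rfl, rfl⟩
      apply h1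
      rw [hm]
      exact scal d hee)
  obtain ⟨r1, rfl, r3, r4⟩ := r
  subst r1 r3 r4
  exact ⟨e, l, y, hee, hm⟩

theorem tr_conj (g : PG) (x : MulAut PG) : H459.Rad.tr (MulAut.conj g) x = MulAut.conj g * x * (MulAut.conj g)⁻¹ := by
  ext k
  rfl

def gS6 (i : Fin 2) : Sp := mkS (g6 i) (g6_symp i)

theorem gS6_inv (i : Fin 2) : (gS6 i)⁻¹.1 = g6i i := by
  have h1 : (gS6 i)⁻¹.1 * g6 i = 1 := congrArg Subtype.val (inv_mul_cancel (gS6 i))
  calc (gS6 i)⁻¹.1 = (gS6 i)⁻¹.1 * (g6 i * g6i i) := by rw [g6_mul, mul_one]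
    _ = g6i i := by rw [← Matrix.mul_assoc, h1, one_mul]

/-- the action of `Sp₄(3)` on `PSp₄(3)` -/
def cj : Sp →* MulAut PG := (MulAut.conj : PG →* MulAut PG).comp pj

theorem cj_eq_one {A : Sp} : cj A = 1 ↔ pj A = 1 := by
  constructor
  · intro h
    exact conj_injective center_P (h.trans (map_one _).symm)
  · intro h
    show MulAut.conj (pj A) = 1
    rw [h, map_one]

theorem six_T {y : MulAut PG} (hy3 : y ^ 3 ≠ 1) (hy6 : y ^ 6 = 1) (hy2 : y ^ 2 = cj T) (hP : PS 2 y) :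
    False := by
  have hinj := conj_injective center_P
  -- `y` fixes `T`
  have hfix : y (pj T) = pj T := by
    apply hinj
    have h1 : y * MulAut.conj (pj T) * y⁻¹ = MulAut.conj (pj T) := by
      change y * cj T * y⁻¹ = cj T
      rw [← hy2]
      group
    have h2 : y * MulAut.conj (pj T) * y⁻¹ = MulAut.conj (y (pj T)) := by
      ext l
      simp only [MulAut.mul_apply, MulAut.conj_apply, map_mul, map_inv, MulAut.apply_inv_self]
    rw [← h2, h1]
  obtain ⟨A, hyA⟩ := inner_of_fix hfix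
  change y = cj A at hyA
  have hA2 : pj (A * A) = pj T := by
    apply hinj
    change cj (A * A) = cj T
    rw [map_mul, ← pow_two, ← hyA, hy2]
  have hAT : A * T = T * A := by
    rcases pj_inj hA2 with h | h
    · have h1 : T = A * A := Subtype.ext h.symm
      rw [h1, mul_assoc]
    · have h1 : T = n * (A * A) := Subtype.ext (by rw [n_mul, h, neg_neg])
      rw [h1, ← mul_assoc, ← n_comm A, mul_assoc, mul_assoc, mul_assoc]
  obtain ⟨s, hs⟩ : ∃ s, s = A * T := ⟨_, rfl⟩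
  have hsT : s * T = T * s := by
    rw [hs]
    calc A * T * T = (T * A) * T := by rw [hAT]
      _ = T * (A * T) := mul_assoc _ _ _
  have hcT : cj T = cj A ^ 2 := by rw [← hyA, hy2]
  have hcs : cj s = cj A ^ 3 := by rw [hs, map_mul, hcT, ← pow_succ']
  have hcA6 : cj A ^ 6 = 1 := by rw [← hyA, hy6]
  have hs2 : pj (s * s) = 1 := by
    rw [← cj_eq_one, map_mul, hcs, ← pow_add, hcA6]
  have hs1 : pj s ≠ 1 := by
    intro h
    apply hy3
    rw [hyA, ← hcs, cj_eq_one.2 h]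
  obtain ⟨e, x, y', hee, hform⟩ := form (M := s.1) (SymplecticGroup.mem_iff.1 s.2)
    (congrArg (fun t : Sp => t.1) hsT) (pj_eq_one.1 hs2) (fun h => hs1 (pj_eq_one.2 h))
  obtain ⟨i, h9, h5⟩ := table6 e x y' hee
  rw [← hform] at h9 h5
  -- the elements
  have hAs : A = s * (T * T) := by
    rw [hs, mul_assoc, T3, mul_one]
  obtain ⟨a, ha⟩ : ∃ a, a = T * T * (gS6 i * A * (gS6 i)⁻¹) := ⟨_, rfl⟩
  have ha1 : a.1 = a6 s.1 i := by
    rw [ha]
    show TM * TM * (g6 i * A.1 * (gS6 i)⁻¹.1) = _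
    rw [gS6_inv, hAs]
    rfl
  have h9' : cj a ^ 9 = 1 := by
    rw [← map_pow, cj_eq_one, pj_eq_one]
    have e1 : a ^ 9 = (a * (a * a)) * ((a * (a * a)) * (a * (a * a))) := by
      rw [← p3 a, ← p3 (a ^ 3), ← pow_mul]
    have e2 : (a ^ 9).1 = (a.1 * (a.1 * a.1)) * ((a.1 * (a.1 * a.1)) * (a.1 * (a.1 * a.1))) := by
      rw [e1]
      rfl
    rw [e2, ha1]
    exact h9
  obtain ⟨h5', -⟩ := five_pj (u := a) (t := s) (by rw [ha1]; exact h5)
  have hsol := hP ![1, pj (gS6 i)]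
  obtain ⟨H, hH⟩ : ∃ H : Subgroup (MulAut PG), H = Subgroup.closure (Set.range fun j =>
      MulAut.conj ((![1, pj (gS6 i)] : Fin 2 → PG) j) * y * (MulAut.conj ((![1, pj (gS6 i)] : Fin 2 → PG) j))⁻¹) :=
    ⟨_, rfl⟩
  rw [← hH] at hsol
  have m0 : cj A ∈ H := by
    rw [hH, ← hyA]
    exact subset_closure ⟨0, by simp⟩
  have m1 : cj (gS6 i) * cj A * (cj (gS6 i))⁻¹ ∈ H := by
    rw [hH, ← hyA]
    exact subset_closure ⟨1, rfl⟩
  have m2 : cj s ∈ H := by
    rw [hcs]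
    exact pow_mem m0 3
  have m3 : cj a ∈ H := by
    rw [ha, map_mul cj, map_mul cj T, map_mul cj (gS6 i * A), map_mul cj (gS6 i), map_inv cj, hcT]
    exact mul_mem (mul_mem (pow_mem m0 2) (pow_mem m0 2)) m1
  refine not_solvable_of_coprime (H := H) (a := 9) (b := 2) (c := 5) m3 m2 h9' ?_ ?_ (by norm_num) (by norm_num)
    (by norm_num) (fun h => hs1 (cj_eq_one.1 h)) hsol
  · rw [pow_two, ← map_mul, cj_eq_one, hs2]
  · have h7 : MulAut.conj ((pj a * pj s) ^ 5) = 1 := by rw [h5', map_one]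
    rw [map_pow, map_mul] at h7
    exact h7

theorem six {x : MulAut PG} (hx : orderOf x = 6) (hP : PS 2 x) : False := by
  have h2 : orderOf (x ^ 2) = 3 := by
    rw [orderOf_pow_of_dvd (by norm_num) (by rw [hx]; norm_num), hx]
  have h6 : x ^ 6 = 1 := orderOf_dvd_iff_pow_eq_one.1 (dvd_of_eq hx)
  have h3 : x ^ 3 ≠ 1 := by
    intro h
    have h1 := orderOf_dvd_of_pow_eq_one h
    rw [hx] at h1
    norm_num at h1
  obtain ⟨A, h, hA, hh⟩ := exists_T h2 (inv_of_ps le_rfl (Cfsg.Agent.H21.SN.PS.pow hP 2))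
  obtain ⟨y, hy⟩ : ∃ y, y = MulAut.conj (pj h) * x * (MulAut.conj (pj h))⁻¹ := ⟨_, rfl⟩
  have hyP : PS 2 y := by
    rw [hy, ← tr_conj]
    exact hP.tr _
  have hyp : ∀ m : ℕ, y ^ m = MulAut.conj (pj h) * x ^ m * (MulAut.conj (pj h))⁻¹ := fun m => by rw [hy, conj_pow]
  have hy6 : y ^ 6 = 1 := by rw [hyp, h6, mul_one, mul_inv_cancel]
  have hy3 : y ^ 3 ≠ 1 := by
    rw [hyp]
    intro h
    exact h3 (conj_eq_one_iff.1 h)
  have hy2 : y ^ 2 = MulAut.conj (pj (h * A * h⁻¹)) := by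
    rw [hyp, hA, map_mul pj, map_mul pj, map_inv pj, map_mul MulAut.conj, map_mul MulAut.conj, map_inv MulAut.conj]
  rcases hh with hh | hh
  · rw [hh] at hy2
    exact six_T hy3 hy6 hy2 hyP
  · rw [hh] at hy2
    have hi : y⁻¹ = y ^ 5 := by
      rw [inv_eq_iff_mul_eq_one, ← pow_succ', hy6]
    refine six_T (y := y⁻¹) ?_ ?_ ?_ ?_
    · rw [inv_pow, Ne, inv_eq_one]
      exact hy3
    · rw [inv_pow, hy6, inv_one]
    · rw [inv_pow, hy2]
      show (cj (T * T))⁻¹ = cj T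
      rw [← map_inv]
      congr 1
      exact inv_eq_of_mul_eq_one_left T3
    · rw [hi]
      exact Cfsg.Agent.H21.SN.PS.pow hyP 5

theorem r69_zmod : R69 PG := by
  rintro x (hx | hx) hP - -
  · exact six hx hP
  · exact nine hx (inv_of_ps le_rfl hP)

/-- **`R69` for `PSp₄(3)`** -/
theorem r69_psp_four {K : Type*} [Group K] [Finite K] {F : Type} [Field F] [Fintype F]
    (hF : Fintype.card F = 3) (e : Nonempty (K ≃* Cfsg.PSp 2 F)) : R69 K := by
  obtain ⟨e⟩ := e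
  have f := Cfsg.Agent.LieClassical.FieldTransfer.pspCongr 2
    (FiniteField.ringEquivOfCardEq (K := F) (K' := ZMod 3) (by rw [hF, ZMod.card]))
  exact R69.congr (e.trans f) r69_zmod

/-- **`R69` for `PSU₄(2)`** -/
theorem r69_psu_four_two {K : Type*} [Group K] [Finite K] {F : Type} [Field F] [Fintype F]
    (hF : Fintype.card F = 4) (e : Nonempty (K ≃* Cfsg.PSU 4 F 2)) : R69 K := by
  obtain ⟨e⟩ := e
  obtain ⟨f⟩ := Cfsg.Agent.S0822.result (F := F) (K := ZMod 3) hF (by rw [ZMod.card])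
  exact R69.congr (e.trans f) r69_zmod

end Cfsg.Agent.H521.SN.SpFour
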