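import Cfsg.Agent.H21.SN.Lr
import Cfsg.Agent.H855.Rad3.SpFour

/-!
# S3831, the base `PSp₄(3) ≅ U₄(2)` (helper521, task 4462)

* `conj_T_of_inv` : `A` of order three in `Sp₄(3)` with `Inv (conj A)` is conjugate to `T` or `T²` (transvections)
* `lrS_two : LrS 2`
* `r69_zmod : R69 (PSp 2 (ZMod 3))`
-/

set_option autoImplicit false
set_option linter.unusedSectionVars false

namespace Cfsg.Agent.H521.SN.SpFour

open Subgroup Cfsg Matrix Cfsg.Agent.H459.Rad
  Cfsg.Agent.H459.Iface Cfsg.Agent.H839.Rad Cfsg.Agent.H21.SN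
open Cfsg.Agent.H959.Rad3 (Inv inv_of_ps)
open Cfsg.Agent.H855.Rad3.SpFour

/-- a certificate of non-solvability: `u ^ a = v ^ b = (u v) ^ c = 1` with `a`, `b`, `c` pairwise coprime -/
theorem not_solvable_of_coprime {G : Type*} [Group G] {H : Subgroup G} {u v : G} (hu : u ∈ H) (hv : v ∈ H) {a b c : ℕ}
    (h1 : u ^ a = 1) (h2 : v ^ b = 1) (h3 : (u * v) ^ c = 1) (hab : a.Coprime b) (hac : a.Coprime c)
    (hbc : b.Coprime c) (hne : v ≠ 1) : ¬ Group.IsSolvable H := by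
  intro hs
  set K := closure ({u, v} : Set G) with hK
  have hKH : K ≤ H := by
    rw [hK, closure_le]
    rintro x (rfl | rfl)
    · exact hu
    · exact hv
  have hKs : Group.IsSolvable K := Group.isSolvable_of_isSolvable_injective (f := inclusion hKH) (inclusion_injective hKH)
  have huK : u ∈ K := subset_closure (by simp)
  have hvK : v ∈ K := subset_closure (by simp)
  let f : K →* Abelianization K := Abelianization.of
  set x := f ⟨u, huK⟩ with hx
  set y := f ⟨v, hvK⟩ with hy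
  have e1 : x ^ a = 1 := by
    rw [hx, ← map_pow, ← map_one f]; congr 1; exact Subtype.ext h1
  have e2 : y ^ b = 1 := by
    rw [hy, ← map_pow, ← map_one f]; congr 1; exact Subtype.ext h2
  have e3 : (x * y) ^ c = 1 := by
    rw [hx, hy, ← map_mul, ← map_pow, ← map_one f]; congr 1; exact Subtype.ext h3
  rw [mul_pow] at e3
  have ex : x = 1 := by
    have e4 : (x ^ c) ^ b = 1 := by
      have : x ^ c = (y ^ c)⁻¹ := eq_inv_of_mul_eq_one_left e3
      rw [this, inv_pow, ← pow_mul, mul_comm, pow_mul, e2, one_pow, inv_one]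
    have e5 : orderOf x ∣ 1 := by
      have d1 : orderOf x ∣ a := orderOf_dvd_of_pow_eq_one e1
      have d2 : orderOf x ∣ c * b := orderOf_dvd_of_pow_eq_one (by rw [pow_mul]; exact e4)
      have : Nat.Coprime a (c * b) := Nat.Coprime.mul_right hac hab
      rw [← this]
      exact Nat.dvd_gcd d1 d2
    exact orderOf_eq_one_iff.1 (Nat.dvd_one.1 e5)
  have ey : y = 1 := by
    rw [ex, one_pow, one_mul] at e3
    have e6 : orderOf y ∣ 1 := by
      rw [← hbc]
      exact Nat.dvd_gcd (orderOf_dvd_of_pow_eq_one e2) (orderOf_dvd_of_pow_eq_one e3)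
    exact orderOf_eq_one_iff.1 (Nat.dvd_one.1 e6)
  have hKc : commutator K = ⊤ := by
    rw [eq_top_iff]
    have h4 : ∀ k : K, f k = 1 → k ∈ commutator K := fun k hk => by
      rwa [← Abelianization.ker_of, MonoidHom.mem_ker]
    have hcl : closure ({⟨u, huK⟩, ⟨v, hvK⟩} : Set K) = ⊤ := by
      rw [eq_top_iff]
      rintro ⟨k, hk⟩ -
      have h5 : k ∈ (closure ({⟨u, huK⟩, ⟨v, hvK⟩} : Set K)).map K.subtype := by
        rw [MonoidHom.map_closure]
        have e : (K.subtype '' ({⟨u, huK⟩, ⟨v, hvK⟩} : Set K)) = {u, v} := by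
          rw [Set.image_pair]
          rfl
        rw [e]
        exact hk
      obtain ⟨k', hk', h6⟩ := h5
      have h7 : k' = ⟨k, hk⟩ := Subtype.ext h6
      rwa [← h7]
    rw [← hcl, closure_le]
    rintro _ (rfl | rfl)
    · exact h4 _ ex
    · exact h4 _ ey
  have hp : Group.IsPerfect K := ⟨hKc⟩
  have hnt : Nontrivial K := ⟨⟨⟨v, hvK⟩, 1, fun h => hne (congrArg Subtype.val h)⟩⟩
  exact Group.IsPerfect.not_isSolvable K hKs

abbrev PG := PSp 2 (ZMod 3)

instance : Finite Sp := inferInstance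

/-- `A` of order three with `Inv` is conjugate to a transvection. -/
theorem conj_T_of_inv {A : Sp} (hA : A ^ 3 = 1) (hA1 : A ≠ 1) (hI : Inv (MulAut.conj (pj A))) :
    ∃ h : Sp, h * A * h⁻¹ = T ∨ h * A * h⁻¹ = T * T := by
  obtain ⟨g, hg⟩ := conj_mem hA
  obtain ⟨B, hB⟩ : ∃ B, B = g * A * g⁻¹ := ⟨_, rfl⟩
  rw [← hB] at hg
  have hB3 : B ^ 3 = 1 := by rw [hB, conj_pow, hA, mul_one, mul_inv_cancel]
  have hB1 : B ≠ 1 := by
    intro h
    apply hA1
    rw [hB] at h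
    exact conj_eq_one_iff.1 h
  have hTB : Inv (MulAut.conj (pj B)) := by
    have e : pj B = pj g * pj A * (pj g)⁻¹ := by rw [hB, map_mul, map_mul, map_inv]
    rw [e]
    exact hI.conj _
  have hm := mem_U.1 hg
  obtain ⟨p, x, z, w, h⟩ := hm
  have hc1 : B.1 * (B.1 * B.1) = 1 := by
    have h2 : B * (B * B) = 1 := by rw [← p3, hB3]
    exact congrArg (fun t : Sp => t.1) h2
  have hc2 : B.1 ≠ 1 := fun h2 => hB1 (Subtype.ext h2)
  have h1 : good B.1 := by
    rw [h] at hc1 hc2 ⊢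
    exact table p x z w hc1 hc2
  rcases h1 with ⟨i, h1⟩ | ⟨j, h1⟩
  · exfalso
    obtain ⟨h5, h5'⟩ := five_pj (u := B) (t := tS i) h1
    have ht : pj (tS i) * pj (tS i) = 1 := by
      rw [← map_mul, pj_eq_one]
      exact tM_sq i
    exact H959.Rad3.not_solvable_of_coprime (a := pj B) (b := pj (tS i)) (k := 1) (n := 5)
      (by rw [← map_pow, hB3, map_one]) (by rw [pow_one, pow_two, ht]) h5 (by norm_num) h5'
      (hTB.solvable center_P ht)
  · refine ⟨(gS j)⁻¹ * g, ?_⟩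
    have e : ∀ V : Sp, B * gS j = gS j * V → (gS j)⁻¹ * g * A * ((gS j)⁻¹ * g)⁻¹ = V := by
      intro V hV
      calc (gS j)⁻¹ * g * A * ((gS j)⁻¹ * g)⁻¹ = (gS j)⁻¹ * ((g * A * g⁻¹) * gS j) := by group
        _ = (gS j)⁻¹ * (gS j * V) := by rw [← hB, hV]
        _ = V := by group
    rcases h1 with h1 | h1
    · exact Or.inl (e T (Subtype.ext h1))
    · exact Or.inr (e (T * T) (Subtype.ext h1))

/-! ### inner automorphisms -/

theorem index_inn : (MulAut.conj : PG →* MulAut PG).range.index = 2 := by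
  have hinj := conj_injective center_P
  have hcA := H316.Red.card_aut (F := ZMod 3) (by rw [ZMod.card])
  have hcP := H316.Red.card_psp (F := ZMod 3) (by rw [ZMod.card])
  have hIc : Nat.card (MulAut.conj : PG →* MulAut PG).range = 25920 := by
    rw [← hcP]
    exact (Nat.card_congr (MonoidHom.ofInjective hinj).toEquiv).symm
  have h := (MulAut.conj : PG →* MulAut PG).range.card_mul_index
  rw [hIc, hcA] at h
  omega

/-- automorphisms of odd order are inner -/
theorem exists_inner {x : MulAut PG} {n : ℕ} (hx : x ^ (2 * n + 1) = 1) : ∃ A : Sp, x = MulAut.conj (pj A) := by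
  have h1 : x * x ∈ (MulAut.conj : PG →* MulAut PG).range := mul_self_mem_of_index_two index_inn x
  have h2 : x = (x * x)⁻¹ ^ n := by
    have h3 : x ^ (2 * n) * x = 1 := by rw [← pow_succ, hx]
    rw [inv_pow, ← pow_two, ← pow_mul]
    exact (eq_inv_of_mul_eq_one_right h3)
  have h4 : x ∈ (MulAut.conj : PG →* MulAut PG).range := by
    rw [h2]
    exact pow_mem (inv_mem h1) n
  obtain ⟨k, rfl⟩ := h4
  obtain ⟨A, rfl⟩ := pj_surjective k
  exact ⟨A, rfl⟩

/-- the central element -/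
def n : Sp := mkS (-1) (by decide +kernel)

theorem pj_n : pj n = 1 := pj_eq_one.2 (Or.inr rfl)
theorem n_mul (A : Sp) : (n * A).1 = -A.1 := by show (-1 : M4) * A.1 = _; simp
theorem n_comm (A : Sp) : n * A = A * n := Subtype.ext (by show (-1 : M4) * A.1 = A.1 * -1; simp)
theorem n_pow {m : ℕ} (hm : Odd m) : n ^ m = n := by
  have h2 : n * n = 1 := Subtype.ext (by show (-1 : M4) * -1 = 1; simp)
  obtain ⟨k, rfl⟩ := hm
  rw [pow_add, pow_mul, pow_two, h2, one_pow, one_mul, pow_one]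

/-- automorphisms of odd order are induced by elements of odd order -/
theorem exists_odd {x : MulAut PG} {m : ℕ} (hm : Odd m) (hx : x ^ m = 1) :
    ∃ A : Sp, A ^ m = 1 ∧ x = MulAut.conj (pj A) := by
  have hinj := conj_injective center_P
  obtain ⟨k, rfl⟩ := hm
  obtain ⟨A, rfl⟩ := exists_inner hx
  have h3 : pj (A ^ (2 * k + 1)) = 1 := by
    apply hinj
    rw [map_pow, map_pow, hx, map_one]
  rcases pj_eq_one.1 h3 with h4 | h4
  · exact ⟨A, Subtype.ext h4, rfl⟩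
  · refine ⟨n * A, ?_, by rw [map_mul pj, pj_n, one_mul]⟩
    rw [(show Commute n A from n_comm A).mul_pow, n_pow ⟨k, rfl⟩]
    apply Subtype.ext
    rw [n_mul, h4]
    simp

/-- **order three, `PS 2`** -/
theorem exists_T {x : MulAut PG} (hx : orderOf x = 3) (hI : Inv x) :
    ∃ A h : Sp, x = MulAut.conj (pj A) ∧ (h * A * h⁻¹ = T ∨ h * A * h⁻¹ = T * T) := by
  have hx3 : x ^ 3 = 1 := orderOf_dvd_iff_pow_eq_one.1 (dvd_of_eq hx)
  obtain ⟨A, hA, rfl⟩ := exists_odd (m := 3) (by decide) hx3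
  obtain ⟨h, hh⟩ := conj_T_of_inv hA (by
    rintro rfl
    rw [map_one, map_one, orderOf_one] at hx
    omega) hI
  exact ⟨A, h, rfl, hh⟩

/-! ### `LrS 2` -/

theorem TM_eq : TM = 1 + vecMulVec (Pi.single (Sum.inl 0) 1) (Pi.single (Sum.inr 0) 1) := by decide +kernel
theorem TM_sq_eq : TM * TM = 1 + vecMulVec (Pi.single (Sum.inl 0) 2) (Pi.single (Sum.inr 0) 1) := by decide +kernel

theorem rank_one {A h : Sp} (hA : h * A * h⁻¹ = T ∨ h * A * h⁻¹ = T * T) :
    ∃ v w : Fin 2 ⊕ Fin 2 → ZMod 3, A.1 = 1 + vecMulVec v w := by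
  have key : ∀ (V : Sp) (v w : Fin 2 ⊕ Fin 2 → ZMod 3), h * A * h⁻¹ = V → V.1 = 1 + vecMulVec v w →
      ∃ v w : Fin 2 ⊕ Fin 2 → ZMod 3, A.1 = 1 + vecMulVec v w := by
    intro V v w hV hv
    have h1 : A = h⁻¹ * V * h := by rw [← hV]; group
    refine ⟨h⁻¹.1 *ᵥ v, w ᵥ* h.1, ?_⟩
    rw [h1]
    show h⁻¹.1 * V.1 * h.1 = _
    rw [hv, mul_add, add_mul, mul_one, mul_vecMulVec, vecMulVec_mul]
    congr 1
    exact congrArg Subtype.val (inv_mul_cancel h)
  rcases hA with hA | hA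
  · exact key T _ _ hA TM_eq
  · exact key (T * T) _ _ hA TM_sq_eq

theorem lrS_two : LrS 2 := by
  intro F _ _ hF x hx hP _
  let σ : F ≃+* ZMod 3 := FiniteField.ringEquivOfCardEq (K := F) (K' := ZMod 3) (by rw [hF, ZMod.card])
  let e : PSp 2 F ≃* PG := Cfsg.Agent.LieClassical.FieldTransfer.pspCongr 2 σ
  have hfin : Finite (PSp 2 F) := inferInstance
  have h1 : orderOf (H459.Rad.tr e x) = 3 := by rw [orderOf_tr, hx]
  obtain ⟨A, h, hA, hh⟩ := exists_T h1 (inv_of_ps le_rfl (hP.tr e))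
  obtain ⟨v, w, hvw⟩ := rank_one hh
  let A' : ↥(Matrix.symplecticGroup (Fin 2) F) :=
    (Cfsg.Agent.LieClassical.FieldTransfer.spCongr (Fin 2) σ).symm A
  refine ⟨A', σ.symm ∘ v, σ.symm ∘ w, ?_, ?_⟩
  · show A.1.map σ.symm = _
    rw [hvw]
    ext i j
    simp [vecMulVec_apply, Matrix.one_apply, apply_ite σ.symm]
  · have e1 : e (QuotientGroup.mk A') = pj A := by
      show QuotientGroup.mk ((Cfsg.Agent.LieClassical.FieldTransfer.spCongr (Fin 2) σ) A') = _
      rw [MulEquiv.apply_symm_apply]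
      rfl
    ext k
    apply e.injective
    have h2 : H459.Rad.tr e x (e k) = e (x k) := by rw [tr_apply, MulEquiv.symm_apply_apply]
    rw [← h2, hA, MulAut.conj_apply, MulAut.conj_apply, map_mul, map_mul, map_inv, e1]

/-! ### order nine -/

def t9 : Fin 3 → M4 := ![m4 1 0 0 0 1 2 0 0 0 1 1 1 2 0 0 2, m4 0 1 0 2 2 0 1 0 0 2 0 2 1 0 1 0,
  m4 1 2 0 2 2 2 1 0 0 2 1 2 1 0 2 2]

theorem t9_symp : ∀ i, t9 i * J (Fin 2) (ZMod 3) * (t9 i)ᵀ = J (Fin 2) (ZMod 3) := by decide +kernel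
theorem t9_sq : ∀ i, t9 i * t9 i = 1 ∨ t9 i * t9 i = -1 := by decide +kernel
theorem t9_ne : ∀ i, t9 i ≠ 1 ∧ t9 i ≠ -1 := by decide +kernel

theorem table9 : ∀ p a b c : ZMod 3, uM p a b c * (uM p a b c * uM p a b c) ≠ 1 →
    ∃ i : Fin 3, five (uM p a b c * t9 i) := by
  decide +kernel

def tS9 (i : Fin 3) : Sp := mkS (t9 i) (t9_symp i)

theorem conj_mem' {A : Sp} {k : ℕ} (hA : A ^ 3 ^ k = 1) : ∃ g : Sp, g * A * g⁻¹ ∈ U := by
  have : Fact (Nat.Prime 3) := ⟨Nat.prime_three⟩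
  have hU : IsPGroup 3 U := IsPGroup.of_card (n := 4) (by rw [card_U]; norm_num)
  let P : Sylow 3 Sp := hU.toSylow (by rw [index_U]; norm_num)
  have hx : IsPGroup 3 ↥(zpowers A) := by
    intro z
    obtain ⟨z, hz⟩ := z
    obtain ⟨n, rfl⟩ := mem_zpowers_iff.1 hz
    refine ⟨k, Subtype.ext ?_⟩
    show (A ^ n) ^ 3 ^ k = 1
    rw [← _root_.zpow_natCast, ← _root_.zpow_mul, mul_comm, _root_.zpow_mul, _root_.zpow_natCast, hA,
      _root_.one_zpow]
  obtain ⟨P', hP'⟩ := hx.exists_le_sylow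
  obtain ⟨g, hg⟩ := MulAction.exists_smul_eq Sp P' P
  refine ⟨g, ?_⟩
  have h1 : g * A * g⁻¹ ∈ (P : Subgroup Sp) := by
    rw [← hg, Sylow.coe_subgroup_smul]
    exact smul_mem_pointwise_smul A (MulAut.conj g) _ (hP' (mem_zpowers A))
  exact h1

theorem nine {x : MulAut PG} (hx : orderOf x = 9) (hI : Inv x) : False := by
  have hx9 : x ^ 9 = 1 := orderOf_dvd_iff_pow_eq_one.1 (dvd_of_eq hx)
  obtain ⟨A, hA, rfl⟩ := exists_odd (m := 9) (by decide) hx9
  obtain ⟨g, hg⟩ := conj_mem' (k := 2) hA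
  obtain ⟨B, hB⟩ : ∃ B, B = g * A * g⁻¹ := ⟨_, rfl⟩
  rw [← hB] at hg
  have hB9 : B ^ 9 = 1 := by rw [hB, conj_pow, hA, mul_one, mul_inv_cancel]
  have hB3 : B.1 * (B.1 * B.1) ≠ 1 := by
    intro h
    have h1 : B ^ 3 = 1 := by
      rw [p3]
      exact Subtype.ext h
    have h2 : A ^ 3 = 1 := by
      rw [hB, conj_pow] at h1
      exact conj_eq_one_iff.1 h1
    have h3 : orderOf (MulAut.conj (pj A)) ∣ 3 := orderOf_dvd_of_pow_eq_one (by rw [← map_pow, ← map_pow, h2, map_one, map_one])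
    rw [hx] at h3
    norm_num at h3
  have hTB : Inv (MulAut.conj (pj B)) := by
    have e : pj B = pj g * pj A * (pj g)⁻¹ := by rw [hB, map_mul, map_mul, map_inv]
    rw [e]
    exact hI.conj _
  obtain ⟨p, a, b, c, h⟩ := mem_U.1 hg
  rw [h] at hB3
  obtain ⟨i, hi⟩ := table9 p a b c hB3
  rw [← h] at hi
  obtain ⟨h5, -⟩ := five_pj (u := B) (t := tS9 i) hi
  have ht : pj (tS9 i) * pj (tS9 i) = 1 := by
    rw [← map_mul, pj_eq_one]
    exact t9_sq i
  have ht1 : pj (tS9 i) ≠ 1 := by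
    rw [Ne, pj_eq_one]
    exact fun h => h.elim (t9_ne i).1 (t9_ne i).2
  have hs := hTB.solvable center_P ht
  exact not_solvable_of_coprime (u := pj B) (v := pj (tS9 i)) (a := 9) (b := 2) (c := 5)
    (subset_closure (by simp)) (subset_closure (by simp)) (by rw [← map_pow, hB9, map_one]) (by rw [pow_two, ht]) h5
    (by norm_num) (by norm_num) (by norm_num) ht1 hs

/-! ### order six: the outer automorphism -/

def DM : M4 := m4 1 0 0 0 0 1 0 0 0 0 2 0 0 0 0 2

theorem DM_sq : DM * DM = 1 := by decide +kernel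
theorem DM_T : DMᵀ = DM := by decide +kernel
theorem DM_J : DM * J (Fin 2) (ZMod 3) * DM = -J (Fin 2) (ZMod 3) := by decide +kernel

theorem dmem (A : Sp) : DM * A.1 * DM ∈ Matrix.symplecticGroup (Fin 2) (ZMod 3) := by
  rw [SymplecticGroup.mem_iff]
  have h1 := SymplecticGroup.mem_iff.1 A.2
  calc DM * A.1 * DM * J (Fin 2) (ZMod 3) * (DM * A.1 * DM)ᵀ
      = DM * (A.1 * (DM * J (Fin 2) (ZMod 3) * DM) * A.1ᵀ) * DM := by
        rw [transpose_mul, transpose_mul, DM_T]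
        simp only [Matrix.mul_assoc]
    _ = -(DM * (A.1 * J (Fin 2) (ZMod 3) * A.1ᵀ) * DM) := by rw [DM_J]; simp
    _ = J (Fin 2) (ZMod 3) := by rw [h1, DM_J, neg_neg]

def dS : Sp ≃* Sp where
  toFun A := ⟨DM * A.1 * DM, dmem A⟩
  invFun A := ⟨DM * A.1 * DM, dmem A⟩
  left_inv A := Subtype.ext (by
    show DM * (DM * A.1 * DM) * DM = A.1
    calc DM * (DM * A.1 * DM) * DM = (DM * DM) * A.1 * (DM * DM) := by simp only [Matrix.mul_assoc]
      _ = A.1 := by rw [DM_sq, one_mul, mul_one])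
  right_inv A := Subtype.ext (by
    show DM * (DM * A.1 * DM) * DM = A.1
    calc DM * (DM * A.1 * DM) * DM = (DM * DM) * A.1 * (DM * DM) := by simp only [Matrix.mul_assoc]
      _ = A.1 := by rw [DM_sq, one_mul, mul_one])
  map_mul' A B := Subtype.ext (by
    show DM * (A.1 * B.1) * DM = (DM * A.1 * DM) * (DM * B.1 * DM)
    calc DM * (A.1 * B.1) * DM = DM * A.1 * 1 * (B.1 * DM) := by simp only [Matrix.mul_assoc, Matrix.mul_one]
      _ = DM * A.1 * (DM * DM) * (B.1 * DM) := by rw [DM_sq]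
      _ = _ := by simp only [Matrix.mul_assoc])

def delta : MulAut PG := Cfsg.Agent.LieClassical.FieldTransfer.centralQuotientCongr dS

theorem delta_pj (A : Sp) : delta (pj A) = pj (dS A) := rfl

theorem dS_T : dS T = T * T := Subtype.ext (by show DM * TM * DM = TM * TM; decide +kernel)

theorem sq_ne : ∀ a : ZMod 3, 2 * a * a ≠ 1 := by decide

theorem two_ne : ¬ (2 : ZMod 3) = 0 := by decide

open Sum in
theorem not_real {M : M4} (hM : M * J (Fin 2) (ZMod 3) * Mᵀ = J (Fin 2) (ZMod 3)) (h : M * TM = TM * TM * M) : False := by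
  have e1 := congrFun (congrFun h (inl 0)) (inr 0)
  have e2 := congrFun (congrFun h (inl 0)) (inl 0)
  have e3 := congrFun (congrFun h (inl 0)) (inl 1)
  have e4 := congrFun (congrFun h (inl 0)) (inr 1)
  have e5 := congrFun (congrFun hM (inl 0)) (inr 0)
  have hT2 : TM * TM = m4 1 0 2 0 0 1 0 0 0 0 1 0 0 0 0 1 := by decide +kernel
  rw [hT2] at e1 e2 e3 e4
  simp [TM, uM, m4, Matrix.mul_apply, Fintype.sum_sum_type, Fin.sum_univ_two, J] at e1 e2 e3 e4 e5
  rw [e2.resolve_left two_ne, e3.resolve_left two_ne, e4.resolve_left two_ne] at e5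
  generalize M (inl 0) (inl 0) = a at e1 e5
  generalize M (inr 0) (inr 0) = b at e1 e5
  generalize M (inl 0) (inr 0) = c at e1 e5
  generalize M (inl 0) (inr 1) = d at e1 e5
  generalize M (inl 0) (inl 1) = e at e1 e5
  clear hM h e2 e3 e4 hT2
  revert a b c d e
  decide +kernel

theorem T_ord {V : Sp} (hV : V * (V * V) = 1) (h : V.1 = TM * TM ∨ V.1 = -(TM * TM)) : V.1 = TM * TM := by
  rcases h with h | h
  · exact h
  · exfalso
    have h1 : V.1 * (V.1 * V.1) = 1 := congrArg (fun t : Sp => t.1) hV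
    rw [h] at h1
    revert h1
    decide +kernel

theorem pj_inj {A B : Sp} (h : pj A = pj B) : A.1 = B.1 ∨ A.1 = -B.1 := by
  have h1 : pj (A * B⁻¹) = 1 := by rw [map_mul, map_inv, h, mul_inv_cancel]
  rcases pj_eq_one.1 h1 with h2 | h2
  · left
    have h3 : A * B⁻¹ = 1 := Subtype.ext h2
    rw [mul_inv_eq_one.1 h3]
  · right
    have h3 : A * B⁻¹ = n := Subtype.ext h2
    rw [mul_inv_eq_iff_eq_mul] at h3
    rw [h3, n_mul]

/-- `T` is not conjugate to its inverse -/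
theorem no_real (k : PG) : k * pj T * k⁻¹ ≠ pj (T * T) := by
  intro h
  obtain ⟨B, rfl⟩ := pj_surjective k
  rw [← map_inv, ← map_mul, ← map_mul] at h
  have h3 : (B * T * B⁻¹) * ((B * T * B⁻¹) * (B * T * B⁻¹)) = 1 := by
    have : (B * T * B⁻¹) * ((B * T * B⁻¹) * (B * T * B⁻¹)) = B * (T * (T * T)) * B⁻¹ := by group
    rw [this, T3, mul_one, mul_inv_cancel]
  have h4 := T_ord h3 (pj_inj h)
  refine not_real (SymplecticGroup.mem_iff.1 B.2) ?_
  have h5 : B * T * B⁻¹ = T * T := Subtype.ext h4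
  have h6 : B * T = T * T * B := mul_inv_eq_iff_eq_mul.1 h5
  exact congrArg (fun t : Sp => t.1) h6

/-- the automorphisms fixing `T` are inner -/
theorem inner_of_fix {y : MulAut PG} (hy : y (pj T) = pj T) : ∃ A : Sp, y = MulAut.conj (pj A) := by
  have hk : ∀ x ∈ (MulAut.conj : PG →* MulAut PG).range, x (pj T) ≠ pj (T * T) := by
    rintro _ ⟨k, rfl⟩
    rw [MulAut.conj_apply]
    exact no_real k
  have hd : delta (pj T) = pj (T * T) := by rw [delta_pj, dS_T]
  have hdn : delta ∉ (MulAut.conj : PG →* MulAut PG).range := fun h => hk _ h hd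
  have hyn : y ∈ (MulAut.conj : PG →* MulAut PG).range := by
    by_contra hyn
    have h1 : delta * y ∈ (MulAut.conj : PG →* MulAut PG).range :=
      (Subgroup.mul_mem_iff_of_index_two index_inn).2 ⟨fun h => absurd h hdn, fun h => absurd h hyn⟩
    exact hk _ h1 (by rw [MulAut.mul_apply, hy, hd])
  obtain ⟨k, rfl⟩ := hyn
  obtain ⟨A, rfl⟩ := pj_surjective k
  exact ⟨A, rfl⟩

/-! ### order six: the table -/

def sM (e x y : ZMod 3) : M4 := m4 e x 0 y 0 (-e) (-y) 0 0 0 e 0 0 0 x (-e)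

def g6 : Fin 2 → M4 := ![m4 1 1 1 1 2 2 0 1 2 0 2 1 0 1 2 2, m4 1 0 1 2 1 0 1 1 2 2 1 2 1 1 0 0]
def g6i : Fin 2 → M4 := ![m4 2 2 2 0 1 2 2 2 1 0 1 2 0 2 1 2, m4 1 0 2 2 2 0 1 2 1 2 1 1 1 2 0 0]

theorem g6_symp : ∀ i, g6 i * J (Fin 2) (ZMod 3) * (g6 i)ᵀ = J (Fin 2) (ZMod 3) := by decide +kernel
theorem g6_mul : ∀ i, g6 i * g6i i = 1 := by decide +kernel

def a6 (s : M4) (i : Fin 2) : M4 := TM * TM * (g6 i * (s * (TM * TM)) * g6i i)

def nineM (v : M4) : Prop := (v * (v * v)) * ((v * (v * v)) * (v * (v * v))) = 1 ∨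
  (v * (v * v)) * ((v * (v * v)) * (v * (v * v))) = -1

instance (v : M4) : Decidable (nineM v) := by unfold nineM; infer_instance

theorem table6 : ∀ e x y : ZMod 3, e * e = 1 →
    ∃ i : Fin 2, nineM (a6 (sM e x y) i) ∧ five (a6 (sM e x y) i * sM e x y) := by
  decide +kernel

theorem blk : ∀ a b c d : ZMod 3, a * a + b * c = 1 → a * b + b * d = 0 → c * a + d * c = 0 → c * b + d * d = 1 →
    a * d - b * c = 1 → b = 0 ∧ c = 0 ∧ d = a ∧ a * a = 1 := by decide +kernel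

set_option synthInstance.maxHeartbeats 400000 in
set_option synthInstance.maxSize 100000 in
theorem fin6 : ∀ e a x y z k l : ZMod 3, e * e = 1 → a * a = 1 → e * k = y * a → e * l = -(x * a) → x * (e + a) = 0 →
    y * (e + a) = 0 → 2 * e * z + x * k + y * l = 0 → ¬ (a = e ∧ x = 0 ∧ y = 0 ∧ z = 0 ∧ k = 0 ∧ l = 0) →
    a = -e ∧ z = 0 ∧ k = -y ∧ l = x := by decide +kernel

end Cfsg.Agent.H521.SN.SpFour
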